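import Groth.Agent.Sga3.H788.DedAff
import Mathlib.AlgebraicGeometry.Morphisms.QuasiSeparated

/-!
# The affinization of a flat qcqs group scheme over a Dedekind domain is a group scheme
-/

set_option autoImplicit false
universe u
open CategoryTheory MonoidalCategory CartesianMonoidalCategory MonObj GrpObj AlgebraicGeometry Limits

namespace Groth.Agent.Sga3.H788.DedGrp

open Groth.Agent.Sga3C.Affinization Groth.Agent.Sga3.H788

variable {k : Type u} [CommRing k] {G G' : Over (Spec (CommRingCat.of k))}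

theorem tensor_compactSpace (X Y : Over (Spec (CommRingCat.of k))) [CompactSpace X.left]
    [CompactSpace Y.left] : CompactSpace (X ⊗ Y).left :=
  inferInstanceAs (CompactSpace ↥(Limits.pullback X.hom Y.hom))

theorem tensor_quasiSeparatedSpace (X Y : Over (Spec (CommRingCat.of k))) [QuasiSeparatedSpace X.left]
    [QuasiSeparatedSpace Y.left] : QuasiSeparatedSpace (X ⊗ Y).left := by
  have : QuasiSeparated X.hom := inferInstance
  have : QuasiSeparated (Limits.pullback.snd X.hom Y.hom) := inferInstance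
  exact quasiSeparatedSpace_of_quasiSeparated (Limits.pullback.snd X.hom Y.hom)

theorem tensor_flat (X Y : Over (Spec (CommRingCat.of k))) [Flat X.hom] [Flat Y.hom] : Flat (X ⊗ Y).hom := by
  rw [Over.tensorObj_hom]
  infer_instance

/-- The group structure on the affinization of a flat qcqs group scheme over a Dedekind domain. -/
theorem exists_grpObj [IsDedekindDomain k] [GrpObj G] [CompactSpace G.left] [QuasiSeparatedSpace G.left] [Flat G.hom]
    {a : G ⟶ G'} (ha : IsAffinization a) : ∃ (_ : GrpObj G'), IsMonHom a := by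
  have := tensor_flat G G
  have := tensor_compactSpace G G
  have := tensor_quasiSeparatedSpace G G
  have := ha.isAffine
  have h1 : IsAffinization (𝟙 (𝟙_ (Over (Spec (CommRingCat.of k))))) :=
    have : IsAffine (𝟙_ (Over (Spec (CommRingCat.of k)))).left :=
      inferInstanceAs (IsAffine (Spec (CommRingCat.of k)))
    IsAffinization.id _
  have : CompactSpace (𝟙_ (Over (Spec (CommRingCat.of k)))).left :=
      inferInstanceAs (CompactSpace (Spec (CommRingCat.of k)))
  have : QuasiSeparatedSpace (𝟙_ (Over (Spec (CommRingCat.of k)))).left :=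
      inferInstanceAs (QuasiSeparatedSpace (Spec (CommRingCat.of k)))
  have : Flat (𝟙_ (Over (Spec (CommRingCat.of k)))).hom := by
    change Flat (𝟙 (Spec (CommRingCat.of k)))
    infer_instance
  have h2 := DedAff.IsAffinization.tensor ha ha
  obtain ⟨m, hm⟩ := h2.exists_fac (μ ≫ a)
  obtain ⟨i, hi⟩ := ha.exists_fac (ι ≫ a)
  have hl := DedAff.IsAffinization.tensor h1 ha
  have hr := DedAff.IsAffinization.tensor ha h1
  have h3 := DedAff.IsAffinization.tensor h2 ha
  let M : MonObj G' :=
    { one := η ≫ a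
      mul := m
      one_mul := by
        apply hl.hom_ext
        calc (𝟙 _ ⊗ₘ a) ≫ (η ≫ a) ▷ G' ≫ m = (η[G] ▷ G) ≫ (a ⊗ₘ a) ≫ m := by
              rw [← Category.assoc, ← Category.assoc, ← tensorHom_id, ← tensorHom_id, tensorHom_comp_tensorHom,
                tensorHom_comp_tensorHom, Category.id_comp, Category.id_comp, Category.comp_id]
          _ = (η[G] ▷ G ≫ μ[G]) ≫ a := by rw [hm, Category.assoc]
          _ = (𝟙 _ ⊗ₘ a) ≫ (λ_ G').hom := by simp
      mul_one := by
        apply hr.hom_ext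
        calc (a ⊗ₘ 𝟙 _) ≫ G' ◁ (η ≫ a) ≫ m = (G ◁ η[G]) ≫ (a ⊗ₘ a) ≫ m := by
              rw [← Category.assoc, ← Category.assoc, ← id_tensorHom, ← id_tensorHom, tensorHom_comp_tensorHom,
                tensorHom_comp_tensorHom, Category.id_comp, Category.id_comp, Category.comp_id]
          _ = (G ◁ η[G] ≫ μ[G]) ≫ a := by rw [hm, Category.assoc]
          _ = (a ⊗ₘ 𝟙 _) ≫ (ρ_ G').hom := by simp
      mul_assoc := by
        apply h3.hom_ext
        calc ((a ⊗ₘ a) ⊗ₘ a) ≫ m ▷ G' ≫ m = (((a ⊗ₘ a) ≫ m) ⊗ₘ a) ≫ m := by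
              rw [← Category.assoc, tensorHom_comp_whiskerRight]
          _ = ((μ[G] ⊗ₘ 𝟙 G) ≫ (a ⊗ₘ a)) ≫ m := by rw [hm, tensorHom_comp_tensorHom, Category.id_comp]
          _ = ((μ[G] ▷ G) ≫ μ[G]) ≫ a := by rw [Category.assoc, hm, tensorHom_id, Category.assoc]
          _ = (α_ G G G).hom ≫ (G ◁ μ[G]) ≫ μ[G] ≫ a := by rw [MonObj.mul_assoc]; simp
          _ = (α_ G G G).hom ≫ ((G ◁ μ[G]) ≫ (a ⊗ₘ a)) ≫ m := by rw [Category.assoc, hm]
          _ = (α_ G G G).hom ≫ (a ⊗ₘ ((a ⊗ₘ a) ≫ m)) ≫ m := by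
              rw [← id_tensorHom, tensorHom_comp_tensorHom, Category.id_comp, hm]
          _ = ((a ⊗ₘ a) ⊗ₘ a) ≫ (α_ G' G' G').hom ≫ (G' ◁ m) ≫ m := by
              rw [associator_naturality_assoc, tensorHom_comp_whiskerLeft_assoc] }
  let Gr : GrpObj G' :=
    { inv := i
      left_inv := by
        apply ha.hom_ext
        calc a ≫ lift i (𝟙 G') ≫ m = lift ι[G] (𝟙 G) ≫ (a ⊗ₘ a) ≫ m := by
              rw [← Category.assoc, ← Category.assoc]
              congr 1
              ext1 <;> simp [hi]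
          _ = (lift ι[G] (𝟙 G) ≫ μ[G]) ≫ a := by rw [hm, Category.assoc]
          _ = a ≫ toUnit G' ≫ η[G] ≫ a := by simp
      right_inv := by
        apply ha.hom_ext
        calc a ≫ lift (𝟙 G') i ≫ m = lift (𝟙 G) ι[G] ≫ (a ⊗ₘ a) ≫ m := by
              rw [← Category.assoc, ← Category.assoc]
              congr 1
              ext1 <;> simp [hi]
          _ = (lift (𝟙 G) ι[G] ≫ μ[G]) ≫ a := by rw [hm, Category.assoc]
          _ = a ≫ toUnit G' ≫ η[G] ≫ a := by simp }
  exact ⟨Gr, { one_hom := rfl, mul_hom := hm.symm }⟩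

end Groth.Agent.Sga3.H788.DedGrp
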