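import Groth.Agent.FlatA.TorVanish
import Mathlib.RingTheory.Flat.TorsionFree
import Mathlib.RingTheory.Flat.Stability
import Mathlib.RingTheory.Flat.Localization
import Mathlib.RingTheory.DedekindDomain.Basic
import Mathlib.RingTheory.DedekindDomain.Ideal.Lemmas
import Mathlib.RingTheory.Ideal.AssociatedPrime.Basic
import Mathlib.LinearAlgebra.TensorProduct.Tower
import Mathlib.RingTheory.RingHom.FaithfullyFlat
import Mathlib.RingTheory.LocalRing.ResidueField.Ideal

/-!
# Fibre criterion of flatness over a Dedekind domain, without finiteness hypotheses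

`R` a Dedekind domain, `A` a flat `R`-algebra, `M` an `A`-module flat over `R`. If `M ⊗ k` is flat over
`A ⊗ k` for all fields `k` over `R`, then `M` is flat over `A`.
-/

set_option autoImplicit false
universe u
open TensorProduct

namespace Groth.Agent.Sga3.H788.FibCrit

open Groth.Agent.FlatA.TorVanish

section general

variable {R : Type u} [CommRing R] {A : Type u} [CommRing A] [Algebra R A]
  {M : Type u} [AddCommGroup M] [Module A M] [Module R M] [IsScalarTower R A M]

theorem torVan_baseChange_aux [Module.Flat R A] [Module.Flat R M] {K F Q : Type u} [AddCommGroup Q] [Module R Q]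
    [AddCommGroup K] [Module R K] [AddCommGroup F] [Module R F] [Module.Flat R F] (i : K →ₗ[R] F) (p : F →ₗ[R] Q)
    (hi : Function.Injective i) (hip : Function.Exact i p) (hp : Function.Surjective p) :
    TorVan A M (A ⊗[R] Q) := by
  refine TorVan.of_presentation (i.baseChange A) (p.baseChange A) ?_ ?_ ?_ ?_
  · exact fun x => lTensor_exact A hip hp x
  · exact LinearMap.lTensor_surjective A hp
  · exact TorVan.of_flat _
  · rw [← LinearMap.lTensor_inj_iff_rTensor_inj]
    have h1 : Function.Injective (i.lTensor M) := Module.Flat.lTensor_preserves_injective_linearMap _ hi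
    have h2 : ∀ x, i.lTensor M (AlgebraTensorModule.cancelBaseChange R A A M K x) =
        AlgebraTensorModule.cancelBaseChange R A A M F ((i.baseChange A).lTensor M x) := by
      intro x
      induction x with
      | zero => simp
      | add a b ha hb => simp [ha, hb]
      | tmul a b =>
        induction b with
        | zero => simp
        | add c d hc hd => simp only [tmul_add, map_add, hc, hd]
        | tmul c d => simp
    rw [injective_iff_map_eq_zero]
    intro x hx
    have h3 := h2 x
    rw [hx, map_zero] at h3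
    exact (AlgebraTensorModule.cancelBaseChange R A A M K).injective
      ((h1 (h3.trans (map_zero _).symm)).trans (map_zero _).symm)

/-- `Tor₁^A(M, A ⊗_R Q) = 0` if `A` and `M` are flat over `R`. -/
theorem torVan_baseChange [Module.Flat R A] [Module.Flat R M] (Q : Type u) [AddCommGroup Q] [Module R Q] :
    TorVan A M (A ⊗[R] Q) := by
  have key : ∀ (F : Type u) [AddCommGroup F] [Module R F] [Module.Flat R F] (p : F →ₗ[R] Q),
      Function.Surjective p → TorVan A M (A ⊗[R] Q) := fun F _ _ _ p hp =>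
    torVan_baseChange_aux (LinearMap.ker p).subtype p (Submodule.subtype_injective _)
      (LinearMap.exact_subtype_ker_map p) hp
  exact key (Q →₀ R) (Finsupp.linearCombination R id) (Finsupp.linearCombination_id_surjective R Q)

/-- If `M` satisfies: `k ⊗ M` flat over `A ⊗ k`, then `Tor₁^A(M, N) = 0` for modules over `A ⊗ k`. -/
theorem torVan_of_fibre [Module.Flat R A] [Module.Flat R M] (k : Type u) [Field k] [Algebra R k]
    [Module.Flat (A ⊗[R] k) ((A ⊗[R] k) ⊗[A] M)] (N : Type u) [AddCommGroup N] [Module A N]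
    [Module (A ⊗[R] k) N] [IsScalarTower A (A ⊗[R] k) N] : TorVan A M N := by
  have key : ∀ (F : Type u) [AddCommGroup F] [Module A F] [Module (A ⊗[R] k) F]
      [IsScalarTower A (A ⊗[R] k) F] (f : F →ₗ[A ⊗[R] k] N), Function.Surjective f → TorVan A M F →
      TorVan A M N := by
    intro F _ _ _ _ f hf hF
    refine TorVan.of_presentation ((LinearMap.ker f).subtype.restrictScalars A)
      (f.restrictScalars A) ?_ hf hF ?_
    · intro x
      exact LinearMap.exact_subtype_ker_map f x
    · exact rTensor_injective_of_flat_baseChange _ Subtype.val_injective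
  exact key (N →₀ (A ⊗[R] k)) (Finsupp.linearCombination (A ⊗[R] k) (id : N → N))
    (Finsupp.linearCombination_id_surjective _ _) ((torVan_baseChange k).finsupp N)

/-- Flatness of the base change passes to further base changes. -/
theorem flat_of_algHom {A₁ A₂ : Type u} [CommRing A₁] [CommRing A₂] [Algebra A A₁] [Algebra A A₂] (f : A₁ →ₐ[A] A₂)
    [Module.Flat A₁ (A₁ ⊗[A] M)] : Module.Flat A₂ (A₂ ⊗[A] M) := by
  let _ : Algebra A₁ A₂ := f.toRingHom.toAlgebra
  have : IsScalarTower A A₁ A₂ := IsScalarTower.of_algebraMap_eq fun x => (f.commutes x).symm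
  exact Module.Flat.of_linearEquiv (AlgebraTensorModule.cancelBaseChange A A₁ A₂ A₂ M).symm

theorem rTensor_injective_baseChange (A₁ : Type u) [CommRing A₁] [Algebra A A₁] [Module.Flat A A₁]
    [Module.Flat A₁ (A₁ ⊗[A] M)] {N N' : Type u} [AddCommGroup N] [Module A N] [AddCommGroup N'] [Module A N']
    (f : N →ₗ[A] N') (hf : Function.Injective f) :
    Function.Injective (((f.baseChange A₁).restrictScalars A).rTensor M) :=
  rTensor_injective_of_flat_baseChange (f.baseChange A₁)
    (Module.Flat.lTensor_preserves_injective_linearMap (M := A₁) f hf)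

end general

section dedekind

variable {R : Type u} [CommRing R] [IsDedekindDomain R]

/-- A module over a Dedekind domain without `𝔭`-torsion for all maximal `𝔭` is torsion-free. -/
theorem eq_zero_of_maximal {T : Type u} [AddCommGroup T] [Module R T]
    (h : ∀ (P : Ideal R), P.IsMaximal → P ≠ ⊥ → ∀ x : T, (∀ a ∈ P, a • x = 0) → x = 0) (r : R) (hr : r ≠ 0)
    (x : T) (hx : r • x = 0) : x = 0 := by
  by_contra hx0
  obtain ⟨P, hP, hle⟩ := exists_le_isAssociatedPrime_of_isNoetherianRing R x hx0
  have hrP : r ∈ P := hle (by simpa [Submodule.mem_colon_singleton] using hx)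
  rw [isAssociatedPrime_iff] at hP
  obtain ⟨hprime, y, rfl⟩ := hP
  have hne : (⊥ : Submodule R T).colon {y} ≠ ⊥ := fun h0 => hr (by rw [h0] at hrP; exact hrP)
  have hmax : ((⊥ : Submodule R T).colon {y}).IsMaximal := hprime.isMaximal hne
  have hy : y = 0 := h _ hmax hne y (fun a ha => by simpa [Submodule.mem_colon_singleton] using ha)
  apply hprime.ne_top
  rw [hy, Ideal.eq_top_iff_one]
  simp [Submodule.mem_colon_singleton]

/-- Uniformizer data at a maximal ideal. -/
theorem exists_uniformizer (P : Ideal R) (hP : P.IsMaximal) (hP0 : P ≠ ⊥) :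
    ∃ π ∈ P, ∃ t : R, π ≠ 0 ∧ t ∉ P ∧ ∀ a ∈ P, ∃ b, t * a = π * b := by
  obtain ⟨π, hπ, hπ2⟩ := Ideal.exists_mem_pow_notMem_pow_succ P hP0 hP.ne_top 1
  rw [pow_one] at hπ
  have hdvd : P ∣ Ideal.span {π} := by
    rw [Ideal.dvd_iff_le, Ideal.span_singleton_le_iff_mem]
    exact hπ
  obtain ⟨B, hB⟩ := hdvd
  have hBP : ¬ B ≤ P := by
    intro hle
    apply hπ2
    have h1 : Ideal.span {π} ≤ P ^ (1 + 1) := by
      rw [hB, pow_succ, pow_one]
      exact Ideal.mul_mono_right hle
    exact h1 (Ideal.mem_span_singleton_self π)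
  obtain ⟨t, htB, htP⟩ := SetLike.not_le_iff_exists.mp hBP
  refine ⟨π, hπ, t, ?_, htP, ?_⟩
  · rintro rfl
    exact hπ2 (Ideal.zero_mem _)
  · intro a ha
    have h1 : t * a ∈ Ideal.span {π} := by
      rw [hB, mul_comm P B]
      exact Ideal.mul_mem_mul htB ha
    obtain ⟨b, hb⟩ := Ideal.mem_span_singleton'.mp h1
    exact ⟨b, by rw [← hb, mul_comm]⟩

variable {A : Type u} [CommRing A] [Algebra R A]
  {M : Type u} [AddCommGroup M] [Module A M] 

/-- no `𝔭`-torsion in `N ⊗ M`. -/
theorem eq_zero_of_smul {N : Type u} [AddCommGroup N] [Module A N]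
    (hN : ∀ r : R, r ≠ 0 → ∀ x : N, algebraMap R A r • x = 0 → x = 0) (P : Ideal R) (hP : P.IsMaximal) (hP0 : P ≠ ⊥)
    (h : TorVan A M (N ⧸ (P.map (algebraMap R A) • ⊤ : Submodule A N))) (x : N ⊗[A] M)
    (hx : ∀ a ∈ P, algebraMap R A a • x = 0) : x = 0 := by
  obtain ⟨π, hπ, t, hπ0, ht, hta⟩ := exists_uniformizer P hP hP0
  set J : Submodule A N := P.map (algebraMap R A) • ⊤ with hJ
  have hinj : Function.Injective (J.subtype.rTensor M) :=
    h.rTensor_injective J.subtype J.mkQ (Submodule.subtype_injective _) (LinearMap.exact_subtype_mkQ J)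
      (Submodule.mkQ_surjective _)
  -- multiplication by `π`
  let μ : N →ₗ[A] J := LinearMap.codRestrict J (LinearMap.lsmul A N (algebraMap R A π)) (fun n =>
    Submodule.smul_mem_smul (Ideal.mem_map_of_mem _ hπ) trivial)
  have hμ : ∀ n, (μ n : N) = algebraMap R A π • n := fun n => rfl
  -- multiplication by `t / π`
  have hex : ∀ y : J, ∃ n : N, algebraMap R A π • n = algebraMap R A t • (y : N) := by
    rintro ⟨y, hy⟩
    change ∃ n : N, algebraMap R A π • n = algebraMap R A t • y
    refine Submodule.smul_induction_on hy ?_ ?_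
    · intro a ha n _
      refine Submodule.span_induction (p := fun a _ => ∃ n' : N, algebraMap R A π • n' = algebraMap R A t • a • n)
        ?_ ?_ ?_ ?_ ha
      · rintro _ ⟨a, ha, rfl⟩
        obtain ⟨b, hb⟩ := hta a ha
        exact ⟨algebraMap R A b • n, by rw [smul_smul, smul_smul, ← map_mul, ← map_mul, hb]⟩
      · exact ⟨0, by simp⟩
      · rintro a b _ _ ⟨n₁, h₁⟩ ⟨n₂, h₂⟩
        exact ⟨n₁ + n₂, by rw [smul_add, h₁, h₂, add_smul, smul_add]⟩
      · rintro c a _ ⟨n₁, h₁⟩
        exact ⟨c • n₁, by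
          rw [smul_comm, h₁, smul_smul, smul_smul, smul_smul]
          congr 1
          rw [smul_eq_mul]
          ring⟩
    · rintro n₁ n₂ ⟨m₁, h₁⟩ ⟨m₂, h₂⟩
      exact ⟨m₁ + m₂, by rw [smul_add, h₁, h₂, smul_add]⟩
  choose g hg using hex
  have huniq : ∀ n₁ n₂ : N, algebraMap R A π • n₁ = algebraMap R A π • n₂ → n₁ = n₂ := by
    intro n₁ n₂ h12
    rw [← sub_eq_zero] at h12 ⊢
    rw [← smul_sub] at h12
    exact hN π hπ0 _ h12
  let ν : J →ₗ[A] N :=
    { toFun := g
      map_add' := fun x y => huniq _ _ (by rw [hg, smul_add, hg, hg, Submodule.coe_add, smul_add])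
      map_smul' := fun c x => huniq _ _ (by
        rw [hg, RingHom.id_apply, smul_comm, hg, Submodule.coe_smul, smul_comm]) }
  have hνμ : ν ∘ₗ μ = LinearMap.lsmul A N (algebraMap R A t) := by
    ext n
    apply huniq
    change algebraMap R A π • g (μ n) = _
    rw [hg, hμ, smul_comm]
    rfl
  have h1 : μ.rTensor M x = 0 := by
    apply hinj
    rw [map_zero, ← LinearMap.comp_apply, ← LinearMap.rTensor_comp]
    have h2 : J.subtype ∘ₗ μ = LinearMap.lsmul A N (algebraMap R A π) := rfl
    have h3 : (LinearMap.lsmul A N (algebraMap R A π)).rTensor M x = algebraMap R A π • x := by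
      have : (LinearMap.lsmul A N (algebraMap R A π)) = algebraMap R A π • LinearMap.id := rfl
      rw [this, LinearMap.rTensor_smul, LinearMap.rTensor_id]
      rfl
    rw [h2, h3, hx π hπ]
  have h4 : algebraMap R A t • x = 0 := by
    have h5 := congrArg (ν.rTensor M) h1
    rw [map_zero, ← LinearMap.comp_apply, ← LinearMap.rTensor_comp, hνμ] at h5
    have : (LinearMap.lsmul A N (algebraMap R A t)) = algebraMap R A t • LinearMap.id := rfl
    rw [this, LinearMap.rTensor_smul, LinearMap.rTensor_id] at h5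
    exact h5
  obtain ⟨c, hc⟩ := hP.exists_inv ht
  obtain ⟨p, hp, hcp⟩ := hc
  have h6 : x = (1 : A) • x := (one_smul _ _).symm
  rw [h6, ← map_one (algebraMap R A), ← hcp, map_add, map_mul, add_smul, mul_smul, h4, smul_zero, hx p hp, add_zero]

/-- `I ⊗ M` is torsion-free. -/
theorem eq_zero_of_smul' [Module R M] [IsScalarTower R A M] [Module.Flat R A] [Module.Flat R M]
    (h : ∀ (k : Type u) [Field k] [Algebra R k], Module.Flat (A ⊗[R] k) ((A ⊗[R] k) ⊗[A] M)) 
    {N : Type u} [AddCommGroup N] [Module A N] [Module R N] [IsScalarTower R A N]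
    (hN : ∀ r : R, r ≠ 0 → ∀ x : N, algebraMap R A r • x = 0 → x = 0) (r : R) (hr : r ≠ 0) (x : N ⊗[A] M)
    (hx : r • x = 0) : x = 0 := by
  refine eq_zero_of_maximal (fun P hP hP0 x hx => ?_) r hr x hx
  refine eq_zero_of_smul hN P hP hP0 ?_ x fun a ha => by
    rw [algebraMap_smul]
    exact hx a ha
  let _ : Field (R ⧸ P) := Ideal.Quotient.field P
  have h1 : TorVan A M (A ⧸ P.map (algebraMap R A)) := (torVan_baseChange (R ⧸ P)).of_equiv
      (Algebra.TensorProduct.quotIdealMapEquivTensorQuot A P).toLinearEquiv.symm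
  have h2 : Module.Flat (A ⊗[R] (R ⧸ P)) ((A ⊗[R] (R ⧸ P)) ⊗[A] M) := h (R ⧸ P)
  have h3 : Module.Flat (A ⧸ P.map (algebraMap R A)) ((A ⧸ P.map (algebraMap R A)) ⊗[A] M) :=
    flat_of_algHom (Algebra.TensorProduct.quotIdealMapEquivTensorQuot A P).symm.toAlgHom
  refine TorVan.of_killed h1 _ ?_
  rintro y ⟨a, ha⟩
  obtain ⟨y, rfl⟩ := Submodule.mkQ_surjective _ y
  change a • Submodule.mkQ _ y = 0
  rw [← map_smul, ← LinearMap.mem_ker, Submodule.ker_mkQ]
  exact Submodule.smul_mem_smul ha trivial

/-- The fibre criterion of flatness over a Dedekind domain, without finiteness. -/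
theorem flat_of_fibres [Module R M] [IsScalarTower R A M] [Module.Flat R A] [Module.Flat R M]
    (h : ∀ (k : Type u) [Field k] [Algebra R k], Module.Flat (A ⊗[R] k) ((A ⊗[R] k) ⊗[A] M)) :
    Module.Flat A M := by
  rw [Module.Flat.iff_rTensor_injective']
  intro I
  have hA : ∀ r : R, r ≠ 0 → ∀ x : A, algebraMap R A r • x = 0 → x = 0 := by
    intro r hr x hx
    rw [algebraMap_smul] at hx
    exact (smul_eq_zero.mp hx).resolve_left hr
  have hI : ∀ r : R, r ≠ 0 → ∀ x : I, algebraMap R A r • x = 0 → x = 0 := by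
    intro r hr x hx
    exact Subtype.ext (hA r hr x (congrArg Subtype.val hx))
  have htf := eq_zero_of_smul' h hI
  rw [injective_iff_map_eq_zero]
  intro x hx
  let K := FractionRing R
  have hK : Module.Flat (A ⊗[R] K) ((A ⊗[R] K) ⊗[A] M) := h K
  have hflat : Module.Flat R (I ⊗[A] M) := by
    have : Module.IsTorsionFree R (I ⊗[A] M) := by
      rw [Module.isTorsionFree_iff_smul_eq_zero]
      intro r m hrm
      by_cases hr : r = 0
      · exact Or.inl hr
      · exact Or.inr (htf r hr m hrm)
    infer_instance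
  -- the injectivity over the generic fibre
  have h1 : Function.Injective
      (((I.subtype.baseChange (A ⊗[R] K)).restrictScalars A).rTensor M) :=
    rTensor_injective_baseChange (A ⊗[R] K) I.subtype (Submodule.subtype_injective _)
  have h2 : (TensorProduct.mk A (A ⊗[R] K) I 1).rTensor M x = 0 := by
    apply h1
    rw [map_zero, ← LinearMap.comp_apply, ← LinearMap.rTensor_comp]
    have h3 : (I.subtype.baseChange (A ⊗[R] K)).restrictScalars A ∘ₗ TensorProduct.mk A (A ⊗[R] K) I 1 =
        TensorProduct.mk A (A ⊗[R] K) A 1 ∘ₗ I.subtype := by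
      ext i
      simp
    rw [h3, LinearMap.rTensor_comp, LinearMap.comp_apply, hx, map_zero]
  have h4 : ∀ y : I ⊗[A] M, AlgebraTensorModule.cancelBaseChange R A A (I ⊗[A] M) K
      (TensorProduct.comm A _ _ (TensorProduct.assoc A (A ⊗[R] K) I M
        ((TensorProduct.mk A (A ⊗[R] K) I 1).rTensor M y))) = y ⊗ₜ[R] (1 : K) := by
    intro y
    induction y with
    | zero => simp
    | add a b ha hb => simp only [map_add, ha, hb, add_tmul]
    | tmul a b => simp [Algebra.TensorProduct.one_def]
  have h5 : x ⊗ₜ[R] (1 : K) = 0 := by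
    rw [← h4, h2]
    simp
  have h6 : Function.Injective (TensorProduct.mk R K (I ⊗[A] M) 1) :=
    Module.Flat.tensorProduct_mk_injective R (I ⊗[A] M) K
  apply h6
  rw [map_zero, TensorProduct.mk_apply]
  have h7 := congrArg (TensorProduct.comm R _ _) h5
  simpa using h7

variable {B : Type u} [CommRing B] [Algebra R B]

omit [IsDedekindDomain R] in
/-- Flatness of `A ⊗ k → B ⊗ k` in terms of the base change of the `A`-module `B`. -/
theorem flat_tensor_of_flat_map [Algebra A B] [IsScalarTower R A B] (k : Type u) [Field k] [Algebra R k]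
    (h : (Algebra.TensorProduct.map (IsScalarTower.toAlgHom R A B) (AlgHom.id R k)).toRingHom.Flat) :
    Module.Flat (A ⊗[R] k) ((A ⊗[R] k) ⊗[A] B) := by
  let e : (A ⊗[R] k) ⊗[A] B ≃+* B ⊗[R] k :=
    (Algebra.TensorProduct.comm A (A ⊗[R] k) B).toRingEquiv.trans
      (Algebra.TensorProduct.cancelBaseChange R A B B k).toRingEquiv
  have he : e.toRingHom.comp (algebraMap (A ⊗[R] k) ((A ⊗[R] k) ⊗[A] B)) =
      (Algebra.TensorProduct.map (IsScalarTower.toAlgHom R A B) (AlgHom.id R k)).toRingHom := by
    ext x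
    · simp [e, Algebra.smul_def]
    · simp [e]
  have h1 : (algebraMap (A ⊗[R] k) ((A ⊗[R] k) ⊗[A] B)) = e.symm.toRingHom.comp
      (Algebra.TensorProduct.map (IsScalarTower.toAlgHom R A B) (AlgHom.id R k)).toRingHom := by
    rw [← he]
    ext x
    · simp
    · simp
  rw [← RingHom.flat_algebraMap_iff, h1]
  exact RingHom.Flat.comp h (RingHom.Flat.of_bijective e.symm.bijective)

/-- Fibre criterion of faithful flatness over a Dedekind domain, without finiteness. -/
theorem faithfullyFlat_of_fibres [Module.Flat R A] [Module.Flat R B] (φ : A →ₐ[R] B)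
    (h : ∀ (k : Type u) [Field k] [Algebra R k],
      (Algebra.TensorProduct.map φ (AlgHom.id R k)).toRingHom.FaithfullyFlat) :
    φ.toRingHom.FaithfullyFlat := by
  rw [RingHom.FaithfullyFlat.iff_flat_and_comap_surjective]
  constructor
  · let _ : Algebra A B := φ.toRingHom.toAlgebra
    have : IsScalarTower R A B := IsScalarTower.of_algebraMap_eq fun x => (φ.commutes x).symm
    change Module.Flat A B
    refine flat_of_fibres (R := R) fun k _ _ => flat_tensor_of_flat_map k ?_
    exact (RingHom.FaithfullyFlat.iff_flat_and_comap_surjective.mp (h k)).1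
  · intro q
    let k := q.asIdeal.ResidueField
    let κ : A →ₐ[R] k := IsScalarTower.toAlgHom R A k
    let π : A ⊗[R] k →ₐ[R] k := Algebra.TensorProduct.lift κ (AlgHom.id R k) (fun _ _ => Commute.all _ _)
    have hq : ∀ a, κ a = 0 ↔ a ∈ q.asIdeal := fun a => by
      change algebraMap A q.asIdeal.ResidueField a = 0 ↔ _
      exact Ideal.algebraMap_residueField_eq_zero
    obtain ⟨Q, hQ⟩ := (RingHom.FaithfullyFlat.iff_flat_and_comap_surjective.mp (h k)).2
      ⟨RingHom.ker π, RingHom.ker_isPrime _⟩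
    refine ⟨PrimeSpectrum.comap (Algebra.TensorProduct.includeLeft : B →ₐ[R] B ⊗[R] k).toRingHom Q, ?_⟩
    ext a
    rw [← hq]
    have h1 : (Algebra.TensorProduct.map φ (AlgHom.id R k)) (a ⊗ₜ 1) ∈ Q.asIdeal ↔ π (a ⊗ₜ 1) = 0 := by
      have h2 := congrArg (fun P : PrimeSpectrum (A ⊗[R] k) => (a ⊗ₜ 1 : A ⊗[R] k) ∈ P.asIdeal) hQ
      exact Iff.of_eq h2
    have h3 : π (a ⊗ₜ 1) = κ a := by
      change Algebra.TensorProduct.lift κ (AlgHom.id R k) (fun _ _ => Commute.all _ _) (a ⊗ₜ 1) = κ a
      rw [Algebra.TensorProduct.lift_tmul, map_one, mul_one]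
    rw [h3] at h1
    rw [← h1]
    simp [PrimeSpectrum.comap_asIdeal]

end dedekind

end Groth.Agent.Sga3.H788.FibCrit
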