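import Mathlib.AlgebraicGeometry.Pullbacks
import Mathlib.AlgebraicGeometry.Morphisms.Flat
import Mathlib.Algebra.Category.Ring.Colimits

/-!
# Base change of morphisms between spectra, in terms of tensor products
-/

set_option autoImplicit false
universe u
open CategoryTheory AlgebraicGeometry Limits TensorProduct

namespace Groth.Agent.Sga3.H788.SpecBC

variable {R : Type u} [CommRing R] (k : Type u) [CommRing k] [Algebra R k]

/-- `Spec A ×_{Spec R} Spec k = Spec (A ⊗ k)`. -/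
theorem exists_iso (A : Type u) [CommRing A] [Algebra R A] {Q : Scheme.{u}} (pA : Q ⟶ Spec (CommRingCat.of A))
    (pk : Q ⟶ Spec (CommRingCat.of k)) (hQ : IsPullback pA pk (Spec.map (CommRingCat.ofHom (algebraMap R A)))
      (Spec.map (CommRingCat.ofHom (algebraMap R k)))) :
    ∃ e : Q ≅ Spec (CommRingCat.of (A ⊗[R] k)),
      e.hom ≫ Spec.map (CommRingCat.ofHom (Algebra.TensorProduct.includeLeftRingHom : A →+* A ⊗[R] k)) = pA ∧
      e.hom ≫ Spec.map (CommRingCat.ofHom
        ((Algebra.TensorProduct.includeRight : k →ₐ[R] A ⊗[R] k).toRingHom)) = pk := by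
  have h := isPullback_SpecMap_of_isPushout _ _ _ _ (CommRingCat.isPushout_tensorProduct R A k)
  exact ⟨hQ.isoIsPullback _ _ h, hQ.isoIsPullback_hom_fst _ _ h, hQ.isoIsPullback_hom_snd _ _ h⟩

/-- The base change of `Spec B ⟶ Spec A` along `Spec k ⟶ Spec R`. -/
theorem comm_of_iso {A B : Type u} [CommRing A] [Algebra R A] [CommRing B] [Algebra R B] (φ : A →ₐ[R] B)
    {P Q : Scheme.{u}} {pA : Q ⟶ Spec (CommRingCat.of A)} {pk : Q ⟶ Spec (CommRingCat.of k)}
    {pB : P ⟶ Spec (CommRingCat.of B)} {pk' : P ⟶ Spec (CommRingCat.of k)}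
    (f : P ⟶ Q) (h1 : f ≫ pA = pB ≫ Spec.map (CommRingCat.ofHom φ.toRingHom)) (h2 : f ≫ pk = pk')
    (eQ : Q ≅ Spec (CommRingCat.of (A ⊗[R] k)))
    (hQ1 : eQ.hom ≫ Spec.map (CommRingCat.ofHom (Algebra.TensorProduct.includeLeftRingHom : A →+* A ⊗[R] k)) = pA)
    (hQ2 : eQ.hom ≫ Spec.map (CommRingCat.ofHom
        ((Algebra.TensorProduct.includeRight : k →ₐ[R] A ⊗[R] k).toRingHom)) = pk)
    (eP : P ≅ Spec (CommRingCat.of (B ⊗[R] k)))
    (hP1 : eP.hom ≫ Spec.map (CommRingCat.ofHom (Algebra.TensorProduct.includeLeftRingHom : B →+* B ⊗[R] k)) = pB)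
    (hP2 : eP.hom ≫ Spec.map (CommRingCat.ofHom
        ((Algebra.TensorProduct.includeRight : k →ₐ[R] B ⊗[R] k).toRingHom)) = pk') :
    f ≫ eQ.hom = eP.hom ≫
        Spec.map (CommRingCat.ofHom (Algebra.TensorProduct.map φ (AlgHom.id R k)).toRingHom) := by
  have h := isPullback_SpecMap_of_isPushout _ _ _ _ (CommRingCat.isPushout_tensorProduct R A k)
  apply h.hom_ext
  · rw [Category.assoc, hQ1, h1, ← hP1, Category.assoc, Category.assoc, ← Spec.map_comp, ← Spec.map_comp]
    congr 2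
  · rw [Category.assoc]
    erw [hQ2]
    rw [h2, ← hP2, Category.assoc, ← Spec.map_comp]
    congr 2
    ext x
    simp

/-- Flatness of the base change of `Spec B ⟶ Spec A`. -/
theorem flat_map {A B : Type u} [CommRing A] [Algebra R A] [CommRing B] [Algebra R B] (φ : A →ₐ[R] B)
    {P Q : Scheme.{u}} (pA : Q ⟶ Spec (CommRingCat.of A)) (pk : Q ⟶ Spec (CommRingCat.of k))
    (hQ : IsPullback pA pk (Spec.map (CommRingCat.ofHom (algebraMap R A)))
      (Spec.map (CommRingCat.ofHom (algebraMap R k))))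
    (pB : P ⟶ Spec (CommRingCat.of B)) (pk' : P ⟶ Spec (CommRingCat.of k))
    (hP : IsPullback pB pk' (Spec.map (CommRingCat.ofHom (algebraMap R B)))
      (Spec.map (CommRingCat.ofHom (algebraMap R k))))
    (f : P ⟶ Q) (h1 : f ≫ pA = pB ≫ Spec.map (CommRingCat.ofHom φ.toRingHom)) (h2 : f ≫ pk = pk') [Flat f] :
    (Algebra.TensorProduct.map φ (AlgHom.id R k)).toRingHom.Flat := by
  obtain ⟨eQ, hQ1, hQ2⟩ := exists_iso k A pA pk hQ
  obtain ⟨eP, hP1, hP2⟩ := exists_iso k B pB pk' hP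
  have he := comm_of_iso k φ f h1 h2 eQ hQ1 hQ2 eP hP1 hP2
  have h3 : Flat (Spec.map (CommRingCat.ofHom (Algebra.TensorProduct.map φ (AlgHom.id R k)).toRingHom)) := by
    have h4 : Spec.map (CommRingCat.ofHom (Algebra.TensorProduct.map φ (AlgHom.id R k)).toRingHom) =
        eP.inv ≫ f ≫ eQ.hom := by rw [he, Iso.inv_hom_id_assoc]
    rw [h4]
    infer_instance
  rwa [HasRingHomProperty.Spec_iff (P := @Flat)] at h3

/-- Injectivity on global sections of the base change, tested on affine pieces. -/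
theorem injective_appTop {ι : Type u} {A : Type u} [CommRing A] [Algebra R A] {B : ι → Type u} [∀ i, CommRing (B i)]
    [∀ i, Algebra R (B i)] (φ : ∀ i, A →ₐ[R] B i)
    (hinj : ∀ x : A ⊗[R] k, (∀ i, Algebra.TensorProduct.map (φ i) (AlgHom.id R k) x = 0) → x = 0)
    {Q : Scheme.{u}} (pA : Q ⟶ Spec (CommRingCat.of A)) (pk : Q ⟶ Spec (CommRingCat.of k))
    (hQ : IsPullback pA pk (Spec.map (CommRingCat.ofHom (algebraMap R A)))
      (Spec.map (CommRingCat.ofHom (algebraMap R k))))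
    {P : ι → Scheme.{u}} (pB : ∀ i, P i ⟶ Spec (CommRingCat.of (B i))) (pk' : ∀ i, P i ⟶ Spec (CommRingCat.of k))
    (hP : ∀ i, IsPullback (pB i) (pk' i) (Spec.map (CommRingCat.ofHom (algebraMap R (B i))))
      (Spec.map (CommRingCat.ofHom (algebraMap R k))))
    {X : Scheme.{u}} (g : X ⟶ Q) (j : ∀ i, P i ⟶ X)
    (h1 : ∀ i, j i ≫ g ≫ pA = pB i ≫ Spec.map (CommRingCat.ofHom (φ i).toRingHom))
    (h2 : ∀ i, j i ≫ g ≫ pk = pk' i) : Function.Injective g.appTop := by
  obtain ⟨e, he1, he2⟩ := exists_iso k A pA pk hQ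
  rw [injective_iff_map_eq_zero]
  intro z hz
  -- the element of the tensor product
  let w : Γ(Spec (CommRingCat.of (A ⊗[R] k)), ⊤) := e.inv.appTop z
  let x : A ⊗[R] k := (Scheme.ΓSpecIso (CommRingCat.of (A ⊗[R] k))).hom w
  have h5 : e.hom.appTop w = z := by
    change e.hom.appTop (e.inv.appTop z) = z
    rw [← CommRingCat.comp_apply, ← Scheme.Hom.comp_appTop, Iso.hom_inv_id]
    simp
  have hx : x = 0 := by
    apply hinj
    intro i
    obtain ⟨e', he1', he2'⟩ := exists_iso k (B i) (pB i) (pk' i) (hP i)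
    have hcomm := comm_of_iso k (φ i) (j i ≫ g) (by rw [Category.assoc, h1]) (by rw [Category.assoc, h2]) e he1 he2
      e' he1' he2'
    set f : CommRingCat.of (A ⊗[R] k) ⟶ CommRingCat.of (B i ⊗[R] k) :=
      CommRingCat.ofHom (Algebra.TensorProduct.map (φ i) (AlgHom.id R k)).toRingHom with hf
    have h3 : Spec.map f = e'.inv ≫ j i ≫ g ≫ e.hom := by
      rw [← Category.assoc (j i), hcomm, Iso.inv_hom_id_assoc]
    have h4 : (Spec.map f).appTop w = 0 := by
      rw [h3]
      simp only [Scheme.Hom.comp_appTop, CommRingCat.comp_apply]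
      rw [h5, hz]
      simp
    have h6 := congrArg (fun F => F w) (Scheme.ΓSpecIso_naturality f)
    change f x = 0
    have h7 : f x = (Scheme.ΓSpecIso (CommRingCat.of (B i ⊗[R] k))).hom ((Spec.map f).appTop w) := h6.symm
    rw [h7, h4, map_zero]
  have hw : w = 0 := by
    apply (ConcreteCategory.bijective_of_isIso (Scheme.ΓSpecIso (CommRingCat.of (A ⊗[R] k))).hom).1
    rw [map_zero]
    exact hx
  rw [← h5, hw, map_zero]

end Groth.Agent.Sga3.H788.SpecBC
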