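import Groth.Agent.Sga3.H788.DedInj
import Groth.Agent.Sga3.H788.DedGrp
import Groth.Agent.Sga3.H788.SpecBC
import Groth.Agent.Sga3.H788.FibCrit
import Groth.Agent.Sga3.H789.FieldHull
import Groth.Prelude.Def_Red
import Mathlib.AlgebraicGeometry.Morphisms.QuasiSeparated

/-!
# The affine hull of a flat qcqs group scheme over a Dedekind domain is faithfully flat
-/

set_option autoImplicit false
universe u
open CategoryTheory MonoidalCategory CartesianMonoidalCategory AlgebraicGeometry Limits
open TensorProduct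

namespace Groth.Agent.Sga3.H788.Assembly

open Groth.Agent.Sga3C.Affinization Groth.Agent.Sga3.H788.DedAff Groth.Agent.Sga3.H788.DedInj

variable {R : Type u} [CommRing R]

attribute [local instance] secAlg

theorem ofHom_algebraMap (G : Over (Spec (CommRingCat.of R))) (U : G.left.Opens) :
    CommRingCat.ofHom (algebraMap R Γ(G.left, U)) = toSec G U := rfl

theorem affOver_hom (G : Over (Spec (CommRingCat.of R))) :
    (affOver G).hom = Spec.map (CommRingCat.ofHom (algebraMap R Γ(G.left, ⊤))) := by
  rw [ofHom_algebraMap]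
  change Spec.map _ = Spec.map _
  congr 1
  rw [toSec]
  congr 1
  exact (Scheme.Hom.appLE_eq_app G.hom).symm

theorem fromSpec_hom (G : Over (Spec (CommRingCat.of R))) {U : G.left.Opens} (hU : IsAffineOpen U) :
    hU.fromSpec ≫ G.hom = Spec.map (CommRingCat.ofHom (algebraMap R Γ(G.left, U))) := by
  have h1 : G.left.toSpecΓ ≫ (affOver G).hom = G.hom := Over.w (toAff G)
  rw [← h1, affOver_hom, hU.fromSpec_toSpecΓ_assoc, ← Spec.map_comp, ofHom_algebraMap, ofHom_algebraMap, toSec_map]

theorem exists_cover (X : Scheme.{u}) [CompactSpace X] :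
    ∃ (ι : Type u) (_ : Finite ι) (U : ι → X.Opens), (∀ i, IsAffineOpen (U i)) ∧ ⨆ i, U i = ⊤ := by
  obtain ⟨I, hI, e⟩ := (isCompact_iff_finite_and_eq_biUnion_affineOpens (U := (⊤ : X.Opens))).mp
    (CompactSpace.isCompact_univ : IsCompact ((⊤ : X.Opens) : Set X))
  have := hI.to_subtype
  refine ⟨I, this, fun i => i.1.1, fun i => i.1.2, ?_⟩
  rw [e, iSup_subtype]

section fibre

variable (G : Over (Spec (CommRingCat.of R))) (k : Type u) [Field k] [Algebra R k]

/-- `Spec k ⟶ Spec R` -/
noncomputable abbrev sm (R : Type u) [CommRing R] (k : Type u) [Field k] [Algebra R k] :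
    Spec (CommRingCat.of k) ⟶ Spec (CommRingCat.of R) := Spec.map (CommRingCat.ofHom (algebraMap R k))

/-- The base change of `G ⟶ Spec Γ(G)` to `k`. -/
noncomputable abbrev bcAff : (Over.pullback (sm R k)).obj G ⟶ (Over.pullback (sm R k)).obj (affOver G) :=
  (Over.pullback (sm R k)).map (toAff G)

theorem bcAff_fst : (bcAff G k).left ≫ pullback.fst (affOver G).hom (sm R k) =
    pullback.fst G.hom (sm R k) ≫ (toAff G).left := by
  exact pullback.lift_fst _ _ _

theorem bcAff_snd : (bcAff G k).left ≫ pullback.snd (affOver G).hom (sm R k) = pullback.snd G.hom (sm R k) := by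
  exact pullback.lift_snd _ _ _

/-- The affine piece of the base change of `G`. -/
noncomputable abbrev piece {U : G.left.Opens} (hU : IsAffineOpen U) :
    pullback (hU.fromSpec ≫ G.hom) (sm R k) ⟶ pullback G.hom (sm R k) :=
  pullback.map _ _ _ _ hU.fromSpec (𝟙 _) (𝟙 _) (by simp) (by simp)

theorem piece_fst {U : G.left.Opens} (hU : IsAffineOpen U) :
    piece G k hU ≫ pullback.fst G.hom (sm R k) = pullback.fst (hU.fromSpec ≫ G.hom) (sm R k) ≫ hU.fromSpec :=
  pullback.lift_fst _ _ _

theorem piece_snd {U : G.left.Opens} (hU : IsAffineOpen U) :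
    piece G k hU ≫ pullback.snd G.hom (sm R k) = pullback.snd (hU.fromSpec ≫ G.hom) (sm R k) := by
  rw [piece, pullback.map, pullback.lift_snd, Category.comp_id]

theorem isPullback_affOver : IsPullback (pullback.fst (affOver G).hom (sm R k)) (pullback.snd (affOver G).hom (sm R k))
    (Spec.map (CommRingCat.ofHom (algebraMap R Γ(G.left, ⊤)))) (sm R k) := by
  rw [← affOver_hom]
  exact IsPullback.of_hasPullback _ _

theorem isPullback_piece {U : G.left.Opens} (hU : IsAffineOpen U) :
    IsPullback (pullback.fst (hU.fromSpec ≫ G.hom) (sm R k)) (pullback.snd (hU.fromSpec ≫ G.hom) (sm R k))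
    (Spec.map (CommRingCat.ofHom (algebraMap R Γ(G.left, U)))) (sm R k) := by
  rw [← fromSpec_hom G hU]
  exact IsPullback.of_hasPullback _ _

theorem fromSpec_toAff {U : G.left.Opens} (hU : IsAffineOpen U) :
    hU.fromSpec ≫ (toAff G).left = Spec.map (CommRingCat.ofHom (res G (le_top : U ≤ ⊤)).toRingHom) :=
  hU.fromSpec_toSpecΓ

theorem piece_comp_fst {U : G.left.Opens} (hU : IsAffineOpen U) :
    piece G k hU ≫ (bcAff G k).left ≫ pullback.fst (affOver G).hom (sm R k) =
      pullback.fst (hU.fromSpec ≫ G.hom) (sm R k) ≫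
        Spec.map (CommRingCat.ofHom (res G (le_top : U ≤ ⊤)).toRingHom) := by
  rw [bcAff_fst, ← Category.assoc, piece_fst, Category.assoc, fromSpec_toAff]
  rfl

theorem piece_comp_snd {U : G.left.Opens} (hU : IsAffineOpen U) :
    piece G k hU ≫ (bcAff G k).left ≫ pullback.snd (affOver G).hom (sm R k) =
      pullback.snd (hU.fromSpec ≫ G.hom) (sm R k) := by
  rw [bcAff_snd, piece_snd]

/-- Injectivity of `Γ(G) ⊗ k → Γ(G_k)`. -/
theorem injective_appTop [IsDedekindDomain R] [Flat G.hom] [CompactSpace G.left] :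
    Function.Injective (bcAff G k).left.appTop := by
  obtain ⟨I, _, U, hU, hcov⟩ := exists_cover G.left
  exact SpecBC.injective_appTop k (fun i => res G (le_top : U i ≤ ⊤))
    (fun x hx => eq_zero_of_map_res G U hcov k x hx)
    (pullback.fst (affOver G).hom (sm R k)) (pullback.snd (affOver G).hom (sm R k)) (isPullback_affOver G k)
    (fun i => pullback.fst ((hU i).fromSpec ≫ G.hom) (sm R k))
    (fun i => pullback.snd ((hU i).fromSpec ≫ G.hom) (sm R k)) (fun i => isPullback_piece G k (hU i))
    (bcAff G k).left (fun i => piece G k (hU i)) (fun i => piece_comp_fst G k (hU i))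
    (fun i => piece_comp_snd G k (hU i))

/-- Flatness of `Γ(G) ⊗ k → Γ(U) ⊗ k`. -/
theorem flat_map_res [Flat (bcAff G k).left] {U : G.left.Opens} (hU : IsAffineOpen U) :
    (Algebra.TensorProduct.map (res G (le_top : U ≤ ⊤)) (AlgHom.id R k)).toRingHom.Flat := by
  have h1 : Flat (piece G k hU) := by
    have : IsOpenImmersion (piece G k hU) := inferInstance
    infer_instance
  have h2 : Flat (piece G k hU ≫ (bcAff G k).left) := inferInstance
  exact SpecBC.flat_map k (res G (le_top : U ≤ ⊤))
    (pullback.fst (affOver G).hom (sm R k)) (pullback.snd (affOver G).hom (sm R k)) (isPullback_affOver G k)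
    (pullback.fst (hU.fromSpec ≫ G.hom) (sm R k)) (pullback.snd (hU.fromSpec ≫ G.hom) (sm R k))
    (isPullback_piece G k hU) (piece G k hU ≫ (bcAff G k).left) (by
      rw [Category.assoc]
      exact piece_comp_fst G k hU) (by
      rw [Category.assoc]
      exact piece_comp_snd G k hU)

end fibre

/-- The field case for all the fibres. -/
theorem flat_and_surjective_bcAff [IsDedekindDomain R] (G : Over (Spec (CommRingCat.of R))) [GrpObj G] [Flat G.hom]
    [QuasiCompact G.hom] [QuasiSeparated G.hom] (k : Type u) [Field k] [Algebra R k] :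
    Flat (bcAff G k).left ∧ Surjective (bcAff G k).left := by
  have : CompactSpace G.left := QuasiCompact.compactSpace_of_compactSpace G.hom
  have : QuasiSeparatedSpace G.left := quasiSeparatedSpace_of_quasiSeparated G.hom
  obtain ⟨_, _⟩ := DedGrp.exists_grpObj (isAffinization_toAff G)
  have h1 : IsAffine (affOver G).left := inferInstanceAs (IsAffine (Spec _))
  have h2 : IsAffine ((Over.pullback (sm R k)).obj (affOver G)).left :=
    inferInstanceAs (IsAffine (pullback (affOver G).hom (sm R k)))
  have h3 : QuasiCompact ((Over.pullback (sm R k)).obj G).hom :=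
    inferInstanceAs (QuasiCompact (pullback.snd G.hom (sm R k)))
  have h4 : IsMonHom (bcAff G k) := inferInstance
  exact Groth.Agent.Sga3.H789.FieldHull.flat_and_surjective k _ _ (bcAff G k) (injective_appTop G k)

theorem flat_res [IsDedekindDomain R] (G : Over (Spec (CommRingCat.of R))) [GrpObj G] [Flat G.hom]
    [QuasiCompact G.hom] [QuasiSeparated G.hom] {U : G.left.Opens} (hU : IsAffineOpen U) :
    (res G (le_top : U ≤ ⊤)).toRingHom.Flat := by
  have hA : Module.Flat R Γ(G.left, ⊤) := flat_toSec G ⊤
  have hB : Module.Flat R Γ(G.left, U) := flat_toSec G U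
  let _ : Algebra Γ(G.left, ⊤) Γ(G.left, U) := (res G (le_top : U ≤ ⊤)).toRingHom.toAlgebra
  have : IsScalarTower R Γ(G.left, ⊤) Γ(G.left, U) :=
    IsScalarTower.of_algebraMap_eq fun x => ((res G (le_top : U ≤ ⊤)).commutes x).symm
  change Module.Flat Γ(G.left, ⊤) Γ(G.left, U)
  refine FibCrit.flat_of_fibres (R := R) fun k _ _ => FibCrit.flat_tensor_of_flat_map k ?_
  have := (flat_and_surjective_bcAff G k).1
  exact flat_map_res G k hU

theorem flat_toSpecΓ [IsDedekindDomain R] (G : Over (Spec (CommRingCat.of R))) [GrpObj G] [Flat G.hom]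
    [QuasiCompact G.hom] [QuasiSeparated G.hom] : Flat G.left.toSpecΓ := by
  have : CompactSpace G.left := QuasiCompact.compactSpace_of_compactSpace G.hom
  obtain ⟨I, _, U, hU, hcov⟩ := exists_cover G.left
  rw [IsZariskiLocalAtSource.iff_of_iSup_eq_top (P := @Flat) U hcov]
  intro i
  rw [← (hU i).isoSpec_hom_fromSpec, Category.assoc, (hU i).fromSpec_toSpecΓ]
  have : Flat (Spec.map (G.left.presheaf.map (homOfLE (le_top : U i ≤ ⊤)).op)) := by
    rw [HasRingHomProperty.Spec_iff (P := @Flat)]
    exact flat_res G (hU i)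
  infer_instance

theorem surjective_toSpecΓ [IsDedekindDomain R] (G : Over (Spec (CommRingCat.of R))) [GrpObj G] [Flat G.hom]
    [QuasiCompact G.hom] [QuasiSeparated G.hom] : Surjective G.left.toSpecΓ := by
  constructor
  intro h
  change ∃ g : G.left, (toAff G).left g = h
  -- the point of the base
  let s := (affOver G).hom h
  let k := s.asIdeal.ResidueField
  have h1 : ∃ t : Spec (CommRingCat.of k), sm R k t = s := by
    have h2 : s ∈ Set.range (PrimeSpectrum.comap (algebraMap R s.asIdeal.ResidueField)) := by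
      rw [PrimeSpectrum.residueField_comap]
      rfl
    exact h2
  obtain ⟨t, ht⟩ := h1
  obtain ⟨z, hz1, hz2⟩ := Scheme.Pullback.exists_preimage_pullback (f := (affOver G).hom) (g := sm R k) h t ht.symm
  obtain ⟨w, hw⟩ := (flat_and_surjective_bcAff G k).2.surj z
  refine ⟨pullback.fst G.hom (sm R k) w, ?_⟩
  rw [← hz1, ← hw]
  rw [← Scheme.Hom.comp_apply, ← Scheme.Hom.comp_apply, bcAff_fst]

theorem quasiCompact_toSpecΓ (G : Over (Spec (CommRingCat.of R))) [QuasiCompact G.hom] :
    QuasiCompact G.left.toSpecΓ := by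
  have h1 : (toAff G).left ≫ (affOver G).hom = G.hom := Over.w (toAff G)
  have h2 : QuasiCompact ((toAff G).left ≫ (affOver G).hom) := by
    rw [h1]
    infer_instance
  have h3 : QuasiSeparated (Spec.map (CommRingCat.ofHom (algebraMap R Γ(G.left, ⊤)))) := inferInstance
  rw [← affOver_hom] at h3
  have h4 : QuasiSeparated (affOver G).hom := h3
  exact QuasiCompact.of_comp (toAff G).left (affOver G).hom

end Groth.Agent.Sga3.H788.Assembly
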