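import Groth.Agent.Sga3C.Affinization
import Mathlib.RingTheory.Flat.TorsionFree
import Mathlib.RingTheory.DedekindDomain.Basic
import Mathlib.AlgebraicGeometry.Morphisms.Flat
import Mathlib.AlgebraicGeometry.Morphisms.QuasiSeparated

/-!
# Affinization of flat qcqs group schemes over a Dedekind domain

For `X` flat over a Dedekind domain `R`, `Γ(X)` is flat over `R`; for `X`, `Y` flat qcqs over `R`,
`Γ(X × Y) = Γ(X) ⊗ Γ(Y)`; hence for a flat qcqs group scheme `G` over `R`, `Spec Γ(G)` is a group scheme and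
`G ⟶ Spec Γ(G)` is a homomorphism.
-/

set_option autoImplicit false
universe u
open CategoryTheory MonoidalCategory CartesianMonoidalCategory MonObj GrpObj AlgebraicGeometry Limits

namespace Groth.Agent.Sga3.H788.DedAff

open Groth.Agent.Sga3C.Affinization

variable {R : Type u} [CommRing R]

theorem le_pre {X S : Scheme.{u}} (f : X ⟶ S) (U : X.Opens) : U ≤ f ⁻¹ᵁ ⊤ := fun _ _ => trivial

/-- The ring map `R ⟶ Γ(X, U)`. -/
noncomputable abbrev toSec (X : Over (Spec (CommRingCat.of R))) (U : X.left.Opens) : CommRingCat.of R ⟶ Γ(X.left, U) :=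
  (Scheme.ΓSpecIso (CommRingCat.of R)).inv ≫ X.hom.appLE ⊤ U (le_pre _ _)

theorem toSec_map (X : Over (Spec (CommRingCat.of R))) {U V : X.left.Opens} (h : U ≤ V) :
    toSec X V ≫ X.left.presheaf.map (homOfLE h).op = toSec X U := by
  rw [toSec, toSec, Category.assoc, Scheme.Hom.appLE_map]

theorem flat_toSec_of_isAffineOpen (X : Over (Spec (CommRingCat.of R))) [Flat X.hom] {U : X.left.Opens}
    (hU : IsAffineOpen U) : (toSec X U).hom.Flat := by
  have h1 : (Scheme.ΓSpecIso (CommRingCat.of R)).inv.hom.Flat :=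
    RingHom.Flat.of_bijective (ConcreteCategory.bijective_of_isIso (Scheme.ΓSpecIso (CommRingCat.of R)).inv)
  rw [CommRingCat.hom_comp]
  exact RingHom.Flat.comp h1 (X.hom.flat_appLE (isAffineOpen_top _) hU _)

theorem eq_zero_of_mul_eq_zero [IsDomain R] (X : Over (Spec (CommRingCat.of R))) [Flat X.hom] (U : X.left.Opens) (r : R)
    (hr : r ≠ 0) (s : Γ(X.left, U)) (hs : (toSec X U).hom r * s = 0) : s = 0 := by
  apply X.left.IsSheaf.section_ext
  intro x hx
  obtain ⟨_, ⟨V, hV, rfl⟩, hxV, hVU⟩ := X.left.isBasis_affineOpens.exists_subset_of_mem_open hx U.2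
  refine ⟨V, hVU, hxV, ?_⟩
  have hflat := flat_toSec_of_isAffineOpen X hV
  let _ := (toSec X V).hom.toAlgebra
  have : Module.Flat R Γ(X.left, V) := hflat
  have h1 : (toSec X V).hom r * X.left.presheaf.map (homOfLE hVU).op s = 0 := by
    rw [← toSec_map X hVU]
    have := congrArg (X.left.presheaf.map (homOfLE hVU).op) hs
    rw [map_mul, map_zero] at this
    exact this
  rw [map_zero]
  exact (Module.Flat.isSMulRegular_of_isRegular (M := Γ(X.left, V)) (IsRegular.of_ne_zero hr))
    (h1.trans (mul_zero _).symm)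

theorem flat_toSec [IsDedekindDomain R] (X : Over (Spec (CommRingCat.of R))) [Flat X.hom] (U : X.left.Opens) :
    (toSec X U).hom.Flat := by
  let _ := (toSec X U).hom.toAlgebra
  have : Module.IsTorsionFree R Γ(X.left, U) := by
    rw [Module.isTorsionFree_iff_smul_eq_zero]
    intro r m hrm
    by_cases hr : r = 0
    · exact Or.inl hr
    · exact Or.inr (eq_zero_of_mul_eq_zero X U r hr m hrm)
  change Module.Flat R Γ(X.left, U)
  infer_instance

theorem flat_appTop [IsDedekindDomain R] (X : Over (Spec (CommRingCat.of R))) [Flat X.hom] :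
    X.hom.appTop.hom.Flat := by
  have h1 := flat_toSec X ⊤
  have h2 : (Scheme.ΓSpecIso (CommRingCat.of R)).hom.hom.Flat :=
    RingHom.Flat.of_bijective (ConcreteCategory.bijective_of_isIso (Scheme.ΓSpecIso (CommRingCat.of R)).hom)
  have h3 : X.hom.appTop = (Scheme.ΓSpecIso (CommRingCat.of R)).hom ≫ toSec X ⊤ := by
    rw [toSec, Iso.hom_inv_id_assoc]
    exact (Scheme.Hom.appLE_eq_app X.hom).symm
  rw [h3, CommRingCat.hom_comp]
  exact RingHom.Flat.comp h2 h1

/-- Künneth in degree zero over a Dedekind domain. -/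
theorem isPushout_appTop [IsDedekindDomain R] (X Y : Over (Spec (CommRingCat.of R))) [CompactSpace X.left]
    [QuasiSeparatedSpace X.left] [CompactSpace Y.left] [QuasiSeparatedSpace Y.left] [Flat X.hom] [Flat Y.hom] :
    IsPushout X.hom.appTop Y.hom.appTop (fst X Y).left.appTop (snd X Y).left.appTop := by
  have H : IsPullback (fst X Y).left (snd X Y).left X.hom Y.hom := IsPullback.of_hasPullback X.hom Y.hom
  have e : ∀ {A B : Scheme.{u}} (f : A ⟶ B) (h : (⊤ : A.Opens) ≤ f ⁻¹ᵁ ⊤), f.appLE ⊤ ⊤ h = f.appTop :=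
    fun f _ => Scheme.Hom.appLE_eq_app f
  have hf : (X.hom.appLE ⊤ ⊤ (le_pre _ _)).hom.Flat := by
    rw [e]
    exact flat_appTop X
  have h1 := isIso_pushoutSection_of_isCompact_of_flat_right_of_ringHomFlat (US := ⊤) (UT := ⊤) (UX := ⊤) (UY := ⊤) H
    (le_pre _ _) (le_pre _ _) (by simp) (isAffineOpen_top _) CompactSpace.isCompact_univ isQuasiSeparated_univ
    CompactSpace.isCompact_univ isQuasiSeparated_univ hf
  have h2 := (isIso_pushoutSection_iff ..).mp h1
  rw [e, e, e, e] at h2
  exact h2

/-- The affinization of a flat scheme over a Dedekind domain is flat. -/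
theorem IsAffinization.flat [IsDedekindDomain R] {X X' : Over (Spec (CommRingCat.of R))} [Flat X.hom] {a : X ⟶ X'}
    (ha : IsAffinization a) : Flat X'.hom := by
  have := ha.isAffine
  have := ha.isIso
  have h1 : X'.hom.appTop = X.hom.appTop ≫ inv a.left.appTop := by
    rw [← Over.w a, Scheme.Hom.comp_appTop]
    simp
  rw [HasRingHomProperty.iff_of_isAffine (P := @Flat), h1, CommRingCat.hom_comp]
  exact RingHom.Flat.comp (flat_appTop X)
    (RingHom.Flat.of_bijective (ConcreteCategory.bijective_of_isIso (inv a.left.appTop)))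

/-- The product of two affinizations (of flat qcqs schemes over a Dedekind domain) is an affinization. -/
theorem IsAffinization.tensor [IsDedekindDomain R] {X Y X' Y' : Over (Spec (CommRingCat.of R))}
    [CompactSpace X.left] [QuasiSeparatedSpace X.left] [CompactSpace Y.left] [QuasiSeparatedSpace Y.left]
    [Flat X.hom] [Flat Y.hom]
    {a : X ⟶ X'} {b : Y ⟶ Y'} (ha : IsAffinization a) (hb : IsAffinization b) : IsAffinization (a ⊗ₘ b) := by
  have := ha.isAffine
  have := hb.isAffine
  have := IsAffinization.flat ha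
  have := IsAffinization.flat hb
  refine ⟨inferInstanceAs (IsAffine (Limits.pullback X'.hom Y'.hom)), ?_⟩
  have := ha.isIso
  have := hb.isIso
  have h1 := isPushout_appTop X Y
  have h2 := isPushout_appTop X' Y'
  have ea : X'.hom.appTop ≫ a.left.appTop = X.hom.appTop := by
    rw [← Scheme.Hom.comp_appTop, Over.w]
  have eb : Y'.hom.appTop ≫ b.left.appTop = Y.hom.appTop := by
    rw [← Scheme.Hom.comp_appTop, Over.w]
  have h3 : IsPushout X'.hom.appTop Y'.hom.appTop (a.left.appTop ≫ (fst X Y).left.appTop)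
      (b.left.appTop ≫ (snd X Y).left.appTop) :=
    h1.of_iso (Iso.refl _) (asIso a.left.appTop).symm (asIso b.left.appTop).symm (Iso.refl _)
      (by simp [← ea]) (by simp [← eb]) (by simp) (by simp)
  have h4 : (a ⊗ₘ b).left.appTop = (h2.isoIsPushout _ _ h3).hom := by
    apply h2.hom_ext
    · rw [IsPushout.inl_isoIsPushout_hom, ← Scheme.Hom.comp_appTop, ← Scheme.Hom.comp_appTop,
        ← Over.comp_left, ← Over.comp_left, tensorHom_fst]
    · rw [IsPushout.inr_isoIsPushout_hom, ← Scheme.Hom.comp_appTop, ← Scheme.Hom.comp_appTop,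
        ← Over.comp_left, ← Over.comp_left, tensorHom_snd]
  rw [h4]
  infer_instance

end Groth.Agent.Sga3.H788.DedAff
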