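import Groth.Agent.Sga3.H788.DedAff
import Groth.Agent.CohtopA.FlatCoker
import Mathlib.LinearAlgebra.TensorProduct.Pi
import Mathlib.Topology.Sheaves.SheafCondition.UniqueGluing

/-!
# Global sections of a flat scheme over a Dedekind domain are universally injective into an open cover

For `X` flat over the Dedekind domain `R` and a finite open cover `U i` of `X`, the map
`Γ(X) ⊗ k → ∏ Γ(U i) ⊗ k` is injective for all `R`-algebras `k`.
-/

set_option autoImplicit false
universe u
open CategoryTheory AlgebraicGeometry Limits TensorProduct Opposite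

namespace Groth.Agent.Sga3.H788.DedInj

open Groth.Agent.Sga3.H788.DedAff

variable {R : Type u} [CommRing R]

/-- The `R`-algebra structure on sections. -/
@[reducible] noncomputable def secAlg (X : Over (Spec (CommRingCat.of R))) (U : X.left.Opens) :
    Algebra R Γ(X.left, U) := (toSec X U).hom.toAlgebra

attribute [local instance] secAlg

/-- The restriction as an algebra homomorphism. -/
noncomputable def res (X : Over (Spec (CommRingCat.of R))) {U V : X.left.Opens} (h : U ≤ V) :
    Γ(X.left, V) →ₐ[R] Γ(X.left, U) :=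
  { (X.left.presheaf.map (homOfLE h).op).hom with
    commutes' := fun r => congrArg (fun F => F r) (toSec_map X h) }

theorem res_apply (X : Over (Spec (CommRingCat.of R))) {U V : X.left.Opens} (h : U ≤ V) (x : Γ(X.left, V)) :
    res X h x = X.left.presheaf.map (homOfLE h).op x := rfl

theorem algebraMap_eq (X : Over (Spec (CommRingCat.of R))) (U : X.left.Opens) (r : R) :
    algebraMap R Γ(X.left, U) r = (toSec X U).hom r := rfl

theorem smul_eq (X : Over (Spec (CommRingCat.of R))) (U : X.left.Opens) (r : R) (s : Γ(X.left, U)) :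
    r • s = (toSec X U).hom r * s := Algebra.smul_def r s

theorem exists_of_smul [IsDomain R] (X : Over (Spec (CommRingCat.of R))) [Flat X.hom] {ι : Type u}
    (U : ι → X.left.Opens) (hU : ⨆ i, U i = ⊤) (r : R) (hr : r ≠ 0) (b : ∀ i, Γ(X.left, U i)) (a : Γ(X.left, ⊤))
    (ha : ∀ i, res X (le_top : U i ≤ ⊤) a = r • b i) : ∃ a', ∀ i, res X (le_top : U i ≤ ⊤) a' = b i := by
  have hcompat : TopCat.Presheaf.IsCompatible X.left.presheaf U b := by
    intro i j
    have h1 : ∀ (V : X.left.Opens) (hi : V ≤ U i) (hj : V ≤ U j),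
        X.left.presheaf.map (homOfLE hi).op (b i) = X.left.presheaf.map (homOfLE hj).op (b j) := by
      intro V hi hj
      rw [← sub_eq_zero]
      apply eq_zero_of_mul_eq_zero X V r hr
      have h2 : ∀ l (hl : V ≤ U l), (toSec X V).hom r * X.left.presheaf.map (homOfLE hl).op (b l) =
          X.left.presheaf.map (homOfLE (le_top : V ≤ ⊤)).op a := by
        intro l hl
        have h3 : X.left.presheaf.map (homOfLE (le_top : V ≤ ⊤)).op a =
            X.left.presheaf.map (homOfLE hl).op (res X (le_top : U l ≤ ⊤) a) := by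
          rw [res_apply, ← ConcreteCategory.comp_apply, ← Functor.map_comp]
          rfl
        rw [h3, ha, smul_eq, map_mul, ← toSec_map X hl]
        rfl
      rw [mul_sub, h2, h2, sub_self]
    exact h1 _ _ _
  obtain ⟨a', ha', -⟩ := X.left.sheaf.existsUnique_gluing' U ⊤ (fun i => homOfLE le_top) (by rw [hU]) b hcompat
  exact ⟨a', ha'⟩

/-- An injective linear map whose cokernel is torsion-free is universally injective. -/
theorem lTensor_injective_of_tf [IsDedekindDomain R] {N N' : Type u} [AddCommGroup N] [Module R N] [AddCommGroup N']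
    [Module R N'] (f : N →ₗ[R] N') (hf : Function.Injective f)
    (h : ∀ r : R, r ≠ 0 → ∀ (b : N') (a : N), f a = r • b → ∃ a', f a' = b) (k : Type u) [AddCommGroup k] [Module R k] :
    Function.Injective (f.lTensor k) := by
  have : Module.IsTorsionFree R (N' ⧸ LinearMap.range f) := by
    rw [Module.isTorsionFree_iff_smul_eq_zero]
    intro r m hrm
    by_cases hr : r = 0
    · exact Or.inl hr
    · right
      obtain ⟨b, rfl⟩ := Submodule.mkQ_surjective _ m
      rw [← map_smul, Submodule.mkQ_apply, Submodule.Quotient.mk_eq_zero] at hrm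
      obtain ⟨a, ha⟩ := hrm
      obtain ⟨a', ha'⟩ := h r hr b a ha
      rw [Submodule.mkQ_apply, Submodule.Quotient.mk_eq_zero]
      exact ⟨a', ha'⟩
  have hex : Function.Exact f (LinearMap.range f).mkQ := LinearMap.exact_map_mkQ_range f
  exact Groth.Agent.CohtopA.FlatCoker.lTensor_injective_of_flat_coker f (LinearMap.range f).mkQ hf hex
    (Submodule.mkQ_surjective _) k

theorem tensor_eq_zero [IsDedekindDomain R] {N : Type u} [AddCommGroup N] [Module R N] {ι : Type u} [Finite ι]
    {N' : ι → Type u} [∀ i, AddCommGroup (N' i)] [∀ i, Module R (N' i)] (f : ∀ i, N →ₗ[R] N' i)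
    (hf : ∀ x, (∀ i, f i x = 0) → x = 0)
    (h : ∀ r : R, r ≠ 0 → ∀ (b : ∀ i, N' i) (a : N), (∀ i, f i a = r • b i) → ∃ a', ∀ i, f i a' = b i)
    (k : Type u) [AddCommGroup k] [Module R k] (x : N ⊗[R] k) (hx : ∀ i, (f i).rTensor k x = 0) : x = 0 := by
  classical
  have := Fintype.ofFinite ι
  have h1 : Function.Injective ((LinearMap.pi f).lTensor k) := by
    refine lTensor_injective_of_tf _ ?_ ?_ k
    · rw [injective_iff_map_eq_zero]
      intro a ha
      exact hf a fun i => congrFun ha i
    · intro r hr b a ha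
      obtain ⟨a', ha'⟩ := h r hr b a fun i => congrFun ha i
      exact ⟨a', funext ha'⟩
  have h2 : (LinearMap.pi f).lTensor k (TensorProduct.comm R N k x) = 0 := by
    apply (TensorProduct.piRight R R k N').injective
    rw [map_zero]
    ext i
    have h3 : ∀ y : N ⊗[R] k, TensorProduct.piRight R R k N' ((LinearMap.pi f).lTensor k
        (TensorProduct.comm R N k y)) i = TensorProduct.comm R _ _ ((f i).rTensor k y) := by
      intro y
      induction y with
      | zero => simp
      | add a b ha hb => simp only [map_add, Pi.add_apply, ha, hb]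
      | tmul a b => simp
    rw [h3, hx, map_zero, Pi.zero_apply]
  apply (TensorProduct.comm R N k).injective
  apply h1
  rw [h2, map_zero, map_zero]

/-- `Γ(X) ⊗ k → ∏ Γ(U i) ⊗ k` is injective. -/
theorem eq_zero_of_map_res [IsDedekindDomain R] (X : Over (Spec (CommRingCat.of R))) [Flat X.hom] {ι : Type u}
    [Finite ι] (U : ι → X.left.Opens) (hU : ⨆ i, U i = ⊤) (k : Type u) [CommRing k] [Algebra R k]
    (x : Γ(X.left, ⊤) ⊗[R] k)
    (hx : ∀ i, Algebra.TensorProduct.map (res X (le_top : U i ≤ ⊤)) (AlgHom.id R k) x = 0) : x = 0 := by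
  refine tensor_eq_zero (fun i => (res X (le_top : U i ≤ ⊤)).toLinearMap) ?_ ?_ k x hx
  · intro a ha
    apply X.left.IsSheaf.section_ext
    intro x hx
    have hx' : x ∈ ⨆ i, U i := by rw [hU]; trivial
    rw [TopologicalSpace.Opens.mem_iSup] at hx'
    obtain ⟨i, hi⟩ := hx'
    refine ⟨U i, le_top, hi, ?_⟩
    rw [map_zero]
    exact ha i
  · intro r hr b a hab
    exact exists_of_smul X U hU r hr b a hab

end Groth.Agent.Sga3.H788.DedInj
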